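import Cfsg.Agent.Mrg.Omega.EDel.ThmU
import Cfsg.Agent.Mrg.Omega.EDel.QP
import Cfsg.Agent.Mrg.Omega.EK3.FrStar
import Cfsg.Agent.Mrg.Omega.KL.FlagNO
import Cfsg.Agent.Mrg.Omega.NOThreeL.RWide.Typ

section


/-!
# THEOREM U(q), the `T`-frame (helper848 #24915 (B)): (B1), (B2), (B3)

`T` a 2-group (the kernel of `S` on the lines), `Ω₁Z(T) = ⟨F i⟩`, `D = C_G(Ω₁Z(T))`, `O = O₂(D)`, `P i` a `T`-minimal group
which centralises the `F l`, `l ≠ i`; `Y i = ⟨D, P i⟩`, `N i = ⟨F i^(Y i)⟩`.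

* `TF` : the frame;  `XK F K = C_G(F n : n ∉ K)`;
* `TF.syl_XK`, `TF.syl_Y`, `TF.syl_D` : `T` is Sylow in `D`, `Y i`, `C_G(F n : n ≠ i)`;
* `TF.eab` : (B1), `⟨Ω₁Z(T)^⟨Y i : i ∈ K⟩⟩` is elementary abelian in `O₂(X_K)`, if `O₂(X_K) ≤ T`;
  `o2X_of_wc`, `o2X_of_mv` : two criteria for `O₂(X_K) ≤ T`;
* `TF.no` : (B2), (NO) for flags (helper863);
* `TF.gen` : (B3), `Y i = K D` (helper557's G'', helper164);
* `TF.toFr` : the frame of THEOREM U; **`TF.main`** : (1), (2).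
-/

set_option autoImplicit false
set_option linter.unusedSectionVars false

namespace Cfsg.Agent.Omega.EDel.UQ

open Subgroup Cfsg Cfsg.Agent.ZN.ChoiceBase
open Cfsg.Agent.ZN (zc zl o2)
open Cfsg.Agent.ZN.ChoiceSit (Syl)
open Cfsg.Agent.Omega.NO3S.EThree.ExactA (eab_mono eab_sup eab_iff)
open Cfsg.Agent.Omega.EK3.Rank (NoOn)
open Cfsg.Agent.Omega.ESym.CoreS (EI EI_mono EI_norm Sy)
open Cfsg.Agent.Omega.EDel.ThmU (Fr XF sylow_of_two)
open Cfsg.Agent.Omega.NoFF.Basic (V V_le Z_le_V mem_conj comm_symm comm_mono)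
open Cfsg.Agent.MinSimple.MinParabolic (IsMinPar)
open Cfsg.Agent.MinSimple.VModule (zc_le normalizer_le_normalizer_zc le_normalizer_o2 o2_isPGroup le_o2 o2_le
  le_centralizer_zc o2_le_of_sylow)
open scoped Pointwise

universe u

variable {G : Type u} [Group G]

/-- a 2-subgroup of odd index is a Sylow group -/
theorem syl_of_not_dvd [Finite G] {T X : Subgroup G} (hT : IsPGroup 2 T) (hTX : T ≤ X)
    (h : ¬ 2 ∣ T.relIndex X) : Syl T X := by
  have : Fact (Nat.Prime 2) := ⟨Nat.prime_two⟩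
  refine ⟨hTX, hT, fun Q hQX hQ hTQ => ?_⟩
  have h1 := relIndex_mul_relIndex T Q X hTQ hQX
  have h2 : T.relIndex Q ∣ Nat.card Q := relIndex_dvd_card T Q
  obtain ⟨n, hn⟩ := IsPGroup.iff_card.1 hQ
  rw [hn] at h2
  obtain ⟨m, -, hm⟩ := (Nat.dvd_prime_pow Nat.prime_two).1 h2
  have h3 : m = 0 := by
    by_contra hm0
    apply h
    rw [← h1, hm]
    exact dvd_mul_of_dvd_left (dvd_pow_self 2 hm0) _
  rw [h3, pow_zero] at hm
  exact le_antisymm (relIndex_eq_one.1 hm) hTQ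

/-- `C_G(F n : n ∉ K)` -/
def XK {ι : Type*} (F : ι → Subgroup G) (K : Set ι) : Subgroup G := centralizer {x | ∃ n, n ∉ K ∧ x ∈ F n}

theorem XK_cent {ι : Type*} (F : ι → Subgroup G) {K : Set ι} {n : ι} (hn : n ∉ K) :
    XK F K ≤ centralizer (F n : Set G) := centralizer_le fun _ hx => ⟨n, hn, hx⟩

theorem le_XK {ι : Type*} {F : ι → Subgroup G} {K : Set ι} {H : Subgroup G}
    (h : ∀ n, n ∉ K → H ≤ centralizer (F n : Set G)) : H ≤ XK F K := by
  intro x hx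
  rw [XK, mem_centralizer_iff]
  rintro y ⟨n, hn, hy⟩
  exact mem_centralizer_iff.1 (h n hn hx) y hy

theorem XK_mono {ι : Type*} (F : ι → Subgroup G) {K K' : Set ι} (h : K ⊆ K') : XK F K ≤ XK F K' :=
  le_XK fun _ hn => XK_cent F fun e => hn (h e)

section crit

variable [Finite G] {T : Subgroup G} {ι : Type*} {F : ι → Subgroup G} {K : Set ι}

/-- **criterion 1 for `O₂(X_K) ≤ T`**: a 2-element of `N_G(T)` which moves the line `F i` does not normalise the class of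
2-groups: `[t, ρ]` is not a 2-element for some `ρ` which centralises the other lines. -/
theorem o2X_of_mv (two : IsPGroup 2 T) (hTX : T ≤ XK F K)
    (ker : ∀ g ∈ normalizer (T : Set G), (∃ k : ℕ, g ^ 2 ^ k = 1) → (∀ i, cj g (F i) = F i) → g ∈ T)
    (mv : ∀ g ∈ normalizer (T : Set G), (∃ k : ℕ, g ^ 2 ^ k = 1) → ∀ i, cj g (F i) ≠ F i →
      ∃ ρ ∈ XK F {i}, ¬ ∃ k : ℕ, (g * (ρ * g⁻¹ * ρ⁻¹)) ^ 2 ^ k = 1) : o2 (XK F K) ≤ T := by
  have : Fact (Nat.Prime 2) := ⟨Nat.prime_two⟩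
  have hn : T ≤ normalizer (o2 (XK F K) : Set G) := hTX.trans (le_normalizer_o2 _)
  have h2 : IsPGroup 2 (T ⊔ o2 (XK F K) : Subgroup G) := IsPGroup.to_sup_of_normal_right' two (o2_isPGroup _) hn
  have key : ∀ q ∈ o2 (XK F K), q ∈ normalizer (T : Set G) → q ∈ T := by
    intro q hq hqT
    have hpow : ∀ x ∈ o2 (XK F K), ∃ k : ℕ, x ^ 2 ^ k = 1 := fun x hx => by
      obtain ⟨k, hk⟩ := o2_isPGroup (XK F K) ⟨x, hx⟩
      exact ⟨k, by simpa using congrArg Subtype.val hk⟩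
    refine ker q hqT (hpow q hq) fun i => ?_
    by_contra hne
    have hqX : q ∈ XK F K := o2_le _ hq
    have hi : i ∈ K := by
      by_contra hi
      exact hne (cj_eq_of_mem_normalizer (centralizer_le_normalizer _ (XK_cent F hi hqX)))
    obtain ⟨ρ, hρ, h3⟩ := mv q hqT (hpow q hq) i hne
    have hρX : ρ ∈ XK F K := XK_mono F (Set.singleton_subset_iff.2 hi) hρ
    exact h3 (hpow _ (mul_mem hq ((mem_normalizer_iff.1 (le_normalizer_o2 _ hρX) _).1 (inv_mem hq))))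
  have hs : ¬ 2 ∣ T.relIndex (T ⊔ o2 (XK F K)) := by
    refine sylow_of_two two le_sup_left ?_
    rintro g ⟨hg, hgT⟩ -
    have hg' : g ∈ ((T ⊔ o2 (XK F K) : Subgroup G) : Set G) := hg
    rw [coe_mul_of_left_le_normalizer_right T _ hn] at hg'
    obtain ⟨t, ht, q, hq, rfl⟩ := Set.mem_mul.1 hg'
    refine mul_mem ht (key q hq ?_)
    have h3 := mul_mem (inv_mem (le_normalizer ht)) hgT
    rwa [inv_mul_cancel_left] at h3
  have h4 := (syl_of_not_dvd two le_sup_left hs).2.2 _ le_rfl h2 le_sup_left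
  exact le_sup_right.trans h4.le

/-- **criterion 2 for `O₂(X_K) ≤ T`**: `T` is weakly closed in the 2-groups over it. -/
theorem o2X_of_wc (two : IsPGroup 2 T) (hTX : T ≤ XK F K) (hF : ∀ i, F i ≤ zc T)
    (ker : ∀ g ∈ normalizer (T : Set G), (∃ k : ℕ, g ^ 2 ^ k = 1) → (∀ i, cj g (F i) = F i) → g ∈ T)
    (wc : ∀ Q : Subgroup G, IsPGroup 2 Q → T ≤ Q → Q ≤ normalizer (T : Set G))
    (perm : ∀ g ∈ normalizer (T : Set G), ∀ i, ∃ j, cj g (F i) = F j)
    (rho : ∀ i, ∃ ρ ∈ XK F {i}, ∃ x ∈ F i, ρ * x * ρ⁻¹ ∉ zc T) : o2 (XK F K) ≤ T := by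
  have hn : T ≤ normalizer (o2 (XK F K) : Set G) := hTX.trans (le_normalizer_o2 _)
  have h2 : IsPGroup 2 (T ⊔ o2 (XK F K) : Subgroup G) := IsPGroup.to_sup_of_normal_right' two (o2_isPGroup _) hn
  have hQ : o2 (XK F K) ≤ normalizer (T : Set G) := le_sup_right.trans (wc _ h2 le_sup_left)
  intro t ht
  have hpow : ∃ k : ℕ, t ^ 2 ^ k = 1 := by
    obtain ⟨k, hk⟩ := o2_isPGroup (XK F K) ⟨t, ht⟩
    exact ⟨k, by simpa using congrArg Subtype.val hk⟩
  refine ker t (hQ ht) hpow fun i => ?_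
  by_contra hne
  have htX : t ∈ XK F K := o2_le _ ht
  have hi : i ∈ K := by
    by_contra hi
    exact hne (cj_eq_of_mem_normalizer (centralizer_le_normalizer _ (XK_cent F hi htX)))
  obtain ⟨m, hm⟩ := perm t⁻¹ (inv_mem (hQ ht)) i
  have hmi : m ≠ i := by
    rintro rfl
    apply hne
    have h3 := congrArg (cj t) hm
    rw [cj_cj, mul_inv_cancel, cj_one] at h3
    exact h3.symm
  obtain ⟨ρ, hρ, x, hx, hρx⟩ := rho i
  have hρX : ρ ∈ XK F K := XK_mono F (Set.singleton_subset_iff.2 hi) hρ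
  have hg : t * (ρ * t⁻¹ * ρ⁻¹) ∈ o2 (XK F K) :=
    mul_mem ht ((mem_normalizer_iff.1 (le_normalizer_o2 _ hρX) _).1 (inv_mem ht))
  have hxm : t⁻¹ * x * t ∈ F m := by
    rw [← hm, mem_cj]
    simpa [mul_assoc] using hx
  have hρm : ρ * (t⁻¹ * x * t) = t⁻¹ * x * t * ρ :=
    (mem_centralizer_iff.1 (XK_cent F (by simpa using hmi) hρ) _ hxm).symm
  apply hρx
  refine (mem_normalizer_iff.1 (normalizer_le_normalizer_zc T (hQ hg)) _).2 ?_
  have e : t * (ρ * t⁻¹ * ρ⁻¹) * (ρ * x * ρ⁻¹) * (t * (ρ * t⁻¹ * ρ⁻¹))⁻¹ = x := by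
    calc t * (ρ * t⁻¹ * ρ⁻¹) * (ρ * x * ρ⁻¹) * (t * (ρ * t⁻¹ * ρ⁻¹))⁻¹
        = t * (ρ * (t⁻¹ * x * t) * ρ⁻¹) * t⁻¹ := by group
      _ = t * (t⁻¹ * x * t) * t⁻¹ := by rw [hρm, mul_inv_cancel_right]
      _ = x := by group
  rw [e]
  exact hF i hx

end crit

theorem XF_eq {ι : Type*} (F : ι → Subgroup G) (l m : ι) : XF F l m = XK F {l, m} := by
  unfold XF XK
  congr 1
  ext x
  constructor
  · rintro ⟨n, h1, h2, h3⟩
    exact ⟨n, by simp [h1, h2], h3⟩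
  · rintro ⟨n, h1, h3⟩
    simp only [Set.mem_insert_iff, Set.mem_singleton_iff, not_or] at h1
    exact ⟨n, h1.1, h1.2, h3⟩

/-- `C_G(Ω₁Z(T))` -/
abbrev DT [Finite G] (T : Subgroup G) : Subgroup G := centralizer (zc T : Set G)

/-- `Y i = ⟨D, P i⟩` -/
abbrev YT [Finite G] {ι : Type} (T : Subgroup G) (P : ι → Subgroup G) (i : ι) : Subgroup G := DT T ⊔ P i

/-- `N i = ⟨F i^(Y i)⟩` -/
abbrev NT [Finite G] {ι : Type} (T : Subgroup G) (F P : ι → Subgroup G) (i : ι) : Subgroup G := V (F i) (YT T P i)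

/-- **The `T`-frame of THEOREM U(q).** -/
structure TF [Finite G] (T : Subgroup G) {ι : Type} (F P : ι → Subgroup G) : Prop where
  c2 : IsCharacteristicTwoType G
  two : IsPGroup 2 T
  zcT : zc T = ⨆ i, F i
  ne : ∀ i, F i ≠ ⊥
  inj : Function.Injective F
  three : ∀ i j : ι, ∃ l, l ≠ i ∧ l ≠ j
  par : ∀ i, IsMinPar T (P i)
  cent : ∀ i l, l ≠ i → P i ≤ centralizer (F l : Set G)
  /-- `N_G(T)` permutes the lines and the groups `Y i` -/
  perm : ∀ g ∈ normalizer (T : Set G), ∃ σ : Equiv.Perm ι, ∀ i, cj g (F i) = F (σ i) ∧ cj g (YT T P i) = YT T P (σ i)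
  ker : ∀ g ∈ normalizer (T : Set G), (∃ k : ℕ, g ^ 2 ^ k = 1) → (∀ i, cj g (F i) = F i) → g ∈ T
  /-- see `o2X_of_wc`, `o2X_of_mv` -/
  o2X : ∀ K : Set ι, K ≠ Set.univ → o2 (XK F K) ≤ T

namespace TF

variable [Finite G] {T : Subgroup G} {ι : Type} {F P : ι → Subgroup G} (h : TF T F P)
include h

theorem F_le (i : ι) : F i ≤ zc T := by rw [h.zcT]; exact le_iSup F i

theorem TD : T ≤ DT T := le_centralizer_zc T

theorem TF' (i : ι) : T ≤ centralizer (F i : Set G) := h.TD.trans (centralizer_le (h.F_le i))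

theorem DF (i : ι) : DT T ≤ centralizer (F i : Set G) := centralizer_le (h.F_le i)

theorem mem_D {H : Subgroup G} (hH : ∀ i, H ≤ centralizer (F i : Set G)) : H ≤ DT T := by
  rw [DT, h.zcT]
  exact comm_symm (iSup_le fun i => comm_symm (hH i))

theorem D_le_XK (K : Set ι) : DT T ≤ XK F K := le_XK fun _ _ => h.DF _

theorem T_le_XK (K : Set ι) : T ≤ XK F K := h.TD.trans (h.D_le_XK K)

theorem Y_cent {i l : ι} (hl : l ≠ i) : YT T P i ≤ centralizer (F l : Set G) := sup_le (h.DF l) (h.cent i l hl)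

theorem Y_le_XK {K : Set ι} {i : ι} (hi : i ∈ K) : YT T P i ≤ XK F K :=
  le_XK fun _ hn => h.Y_cent fun e => hn (e ▸ hi)

theorem stab (i : ι) : YT T P i ⊓ centralizer (F i : Set G) = DT T := by
  refine le_antisymm (h.mem_D fun l => ?_) (le_inf le_sup_left (h.DF i))
  by_cases hl : l = i
  · rw [hl]; exact inf_le_right
  · exact inf_le_left.trans (h.Y_cent hl)

/-- an element of `N_G(T)` which centralises all `F n`, `n ≠ i`, fixes all lines -/
theorem fix_of {i : ι} {g : G} (hg : g ∈ XK F {i}) (hgT : g ∈ normalizer (T : Set G)) (j : ι) :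
    cj g (F j) = F j := by
  obtain ⟨σ, hσ⟩ := h.perm g hgT
  have h1 : ∀ n, n ≠ i → σ n = n := by
    intro n hn
    apply h.inj
    rw [← (hσ n).1]
    exact cj_eq_of_mem_normalizer (centralizer_le_normalizer _ (XK_cent F (by simpa using hn) hg))
  have h2 : σ i = i := by
    by_contra hne
    exact hne (σ.injective (h1 _ hne))
  by_cases hj : j = i
  · rw [hj, (hσ i).1, h2]
  · rw [(hσ j).1, h1 j hj]

theorem syl_XK (i : ι) : ¬ 2 ∣ T.relIndex (XK F {i}) :=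
  sylow_of_two h.two (h.T_le_XK _) fun g hg h2 => h.ker g hg.2 h2 (h.fix_of hg.1 hg.2)

theorem syl_sub {i : ι} {R : Subgroup G} (hT : T ≤ R) (hR : R ≤ XK F {i}) : ¬ 2 ∣ T.relIndex R := fun h1 => by
  apply h.syl_XK i
  rw [← relIndex_mul_relIndex T R (XK F {i}) hT hR]
  exact h1.mul_right _

theorem syl_Y (i : ι) : ¬ 2 ∣ T.relIndex (YT T P i) := h.syl_sub (h.TD.trans le_sup_left) (h.Y_le_XK rfl)

theorem ne_univ (i : ι) : ({i} : Set ι) ≠ Set.univ := by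
  obtain ⟨l, hl, -⟩ := h.three i i
  intro e
  have h1 : l ∈ ({i} : Set ι) := e ▸ Set.mem_univ l
  exact hl h1

theorem syl_D (i : ι) : ¬ 2 ∣ T.relIndex (DT T) := h.syl_sub (i := i) h.TD (h.D_le_XK _)

theorem Syl_D (i : ι) : Syl T (DT T) := syl_of_not_dvd h.two h.TD (h.syl_D i)

/-! ### `O₂(X_K)` -/

variable {K : Set ι} (hK : K ≠ Set.univ)
include hK

theorem char2_XK : XK F K ⊓ centralizer (o2 (XK F K) : Set G) ≤ o2 (XK F K) := by
  have e : XK F K = centralizer ((closure {x | ∃ n, n ∉ K ∧ x ∈ F n} : Subgroup G) : Set G) :=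
    (centralizer_closure _).symm
  have hle : closure {x | ∃ n, n ∉ K ∧ x ∈ F n} ≤ zc T := by
    rw [closure_le]
    rintro x ⟨n, -, hx⟩
    exact h.F_le n hx
  rw [e]
  refine NOne.LemmaT.char2_centralizer h.c2 (h.two.to_le (hle.trans (zc_le T))) ?_
  obtain ⟨n, hn⟩ := (Set.ne_univ_iff_exists_notMem K).1 hK
  intro e1
  apply h.ne n
  rw [eq_bot_iff, ← e1]
  exact fun x hx => subset_closure ⟨n, hn, hx⟩

theorem o2X_le_D : o2 (XK F K) ≤ DT T := (h.o2X K hK).trans h.TD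

/-- `O₂(X_K) ≤ O₂(R)` for `D ≤ R ≤ X_K` -/
theorem o2X_le_of_le {R : Subgroup G} (h1 : DT T ≤ R) (h2 : R ≤ XK F K) : o2 (XK F K) ≤ o2 R :=
  le_o2 ((h.o2X_le_D hK).trans h1) (o2_isPGroup _) (h2.trans (le_normalizer_o2 _))

theorem Z_le_zc : zc T ≤ zc (o2 (XK F K)) := by
  have h1 : zc T ≤ centralizer (o2 (XK F K) : Set G) := comm_symm (h.o2X_le_D hK)
  intro x hx
  have h2 : x ∈ XK F K := h.T_le_XK K (zc_le T hx)
  exact mem_zc.2 ⟨h.char2_XK hK ⟨h2, h1 hx⟩, (mem_zc.1 hx).2.1, fun y hy => mem_centralizer_iff.1 (h1 hx) y hy⟩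

theorem E_le_zc : EI (zc T) (YT T P) K ≤ zc (o2 (XK F K)) := by
  have hXn : XK F K ≤ normalizer (zc (o2 (XK F K)) : Set G) :=
    (le_normalizer_o2 _).trans (normalizer_le_normalizer_zc _)
  refine iSup_le fun y => ?_
  have hy : (y : G) ∈ XK F K := (iSup_le fun i : K => h.Y_le_XK i.2 : (⨆ i : K, YT T P i) ≤ XK F K) y.2
  have h1 := cj_mono (y : G) (h.Z_le_zc hK)
  rwa [cj_eq_of_mem_normalizer (hXn hy)] at h1

theorem E_le_o2X : EI (zc T) (YT T P) K ≤ o2 (XK F K) := (h.E_le_zc hK).trans (zc_le _)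

theorem E_le_o2 {R : Subgroup G} (h1 : DT T ≤ R) (h2 : R ≤ XK F K) : EI (zc T) (YT T P) K ≤ o2 R :=
  (h.E_le_o2X hK).trans (h.o2X_le_of_le hK h1 h2)

/-- **(B1)** -/
theorem eab : IsElementaryAbelian 2 (EI (zc T) (YT T P) K : Subgroup G) ∧ EI (zc T) (YT T P) K ≤ o2 (DT T) := by
  refine ⟨eab_iff.2 ⟨?_, fun x hx => (mem_zc.1 (h.E_le_zc hK hx)).2.1⟩, h.E_le_o2 hK le_rfl (h.D_le_XK K)⟩
  intro x hx
  rw [mem_centralizer_iff]
  intro y hy
  exact (mem_zc.1 (h.E_le_zc hK hx)).2.2 y (h.E_le_o2X hK hy)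

omit hK

/-! ### `N i` -/

omit h in
theorem Y_norm_N (i : ι) : YT T P i ≤ normalizer (NT T F P i : Set G) := KL.FlagNO.le_normalizer_V' _ _

omit h in
theorem F_le_N (i : ι) : F i ≤ NT T F P i := KL.FlagNO.le_V' _ _

theorem N_le_E {K : Set ι} {i : ι} (hi : i ∈ K) : NT T F P i ≤ EI (zc T) (YT T P) K := by
  refine KL.FlagNO.V_le_elem fun g hg z hz => ?_
  have h1 : g ∈ (⨆ i : K, YT T P i : Subgroup G) := (le_iSup (fun i : K => YT T P i) ⟨i, hi⟩ : _ ≤ _) hg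
  exact (le_iSup (fun y : (⨆ i : K, YT T P i : Subgroup G) => cj (y : G) (zc T)) ⟨g, h1⟩ : _ ≤ _)
    ⟨z, h.F_le i hz, rfl⟩

theorem O_le_Y (i : ι) : o2 (DT T) ≤ YT T P i := (o2_le _).trans le_sup_left

theorem N_el (i : ι) : IsElementaryAbelian 2 (NT T F P i : Subgroup G) :=
  eab_mono (h.eab (h.ne_univ i)).1 (h.N_le_E rfl)

/-- `C_{Y_i}(N_i) ≤ D` -/
theorem cent_N_le (i : ι) : YT T P i ⊓ centralizer (NT T F P i : Set G) ≤ DT T := by
  rw [← h.stab i]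
  exact inf_le_inf_left _ (centralizer_le (F_le_N i))

theorem Y_norm_cN (i : ι) :
    YT T P i ≤ normalizer ((YT T P i ⊓ centralizer (NT T F P i : Set G) : Subgroup G) : Set G) := by
  intro g hg
  rw [mem_normalizer_iff_cj, cj_inf, cj_centralizer, cj_eq_of_mem_normalizer (Y_norm_N i hg),
    cj_eq_of_mem_normalizer (Subgroup.le_normalizer hg)]

theorem o2Y_le_T (i : ι) : o2 (YT T P i) ≤ T := o2_le_of_sylow h.two (h.syl_Y i)

theorem o2Y_le_O (i : ι) : o2 (YT T P i) ≤ o2 (DT T) :=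
  le_o2 ((h.o2Y_le_T i).trans h.TD) (o2_isPGroup _) ((le_sup_left : DT T ≤ _).trans (le_normalizer_o2 _))

/-- **`O₂(Y_i) = C_O(N_i)`** -/
theorem Q_eq (i : ι) : o2 (YT T P i) = o2 (DT T) ⊓ centralizer (NT T F P i : Set G) := by
  apply le_antisymm
  · refine le_inf (h.o2Y_le_O i) ?_
    exact KL.FlagNO.o2_cent h.two (h.syl_Y i) (h.TF' i)
  · set X := YT T P i ⊓ centralizer (NT T F P i : Set G) with hX
    have h1 : o2 (DT T) ⊓ centralizer (NT T F P i : Set G) ≤ o2 X := by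
      refine le_o2 (le_inf (inf_le_left.trans (h.O_le_Y i)) inf_le_right) ((o2_isPGroup _).to_le inf_le_left) ?_
      intro x hx
      have hxD : x ∈ normalizer (o2 (DT T) : Set G) := le_normalizer_o2 _ (h.cent_N_le i hx)
      have hxN : x ∈ normalizer (NT T F P i : Set G) := Y_norm_N i hx.1
      rw [mem_normalizer_iff_cj, cj_inf, cj_centralizer, cj_eq_of_mem_normalizer hxD,
        cj_eq_of_mem_normalizer hxN]
    refine h1.trans (le_o2 ((o2_le _).trans inf_le_left) (o2_isPGroup _) ?_)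
    refine (h.Y_norm_cN i).trans ?_
    exact normalizer_le_of_cj (F := o2) (fun g T => Cfsg.Agent.ZN.ChoiceSit.o2_cj g T) X

/-- **(B2)**: no elementary abelian subgroup of `O` is an over-offender on `N i` -/
theorem no (ml : ML.Final.MLK.{u, u}) (i : ι) (kg : IsKGroup (YT T P i)) : NoOn (o2 (DT T)) (NT T F P i) := by
  intro A hA hAO
  refine KL.FlagNO.flag_no ml h.two (h.TD.trans le_sup_left) (h.syl_Y i) (h.TF' i) kg
    (eab_iff.1 (h.N_el i)).2 ?_ (eab_iff.1 hA).2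
  rw [h.stab i]
  exact hAO

/-- `P j ≤ K D` if `P j` does not normalise `T ∩ K` -/
theorem P_le (j : ι) {K : Subgroup G} (hPK : P j ≤ normalizer (K : Set G))
    (hm : ¬ P j ≤ normalizer ((T ⊓ K : Subgroup G) : Set G)) : P j ≤ K ⊔ DT T := by
  have hsP : ¬ 2 ∣ T.relIndex (P j) :=
    h.syl_sub (i := j) (h.par j).le ((le_sup_right : P j ≤ YT T P j).trans (h.Y_le_XK (Set.mem_singleton j)))
  have hPn : P j ≤ normalizer ((K ⊓ P j : Subgroup G) : Set G) := by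
    intro g hg
    rw [mem_normalizer_iff_cj, cj_inf, cj_eq_of_mem_normalizer (hPK hg),
      cj_eq_of_mem_normalizer (Subgroup.le_normalizer hg)]
  rcases (h.par j).sup_eq_or_inf_le h.two hsP inf_le_right hPn with h1 | h1
  · rw [← h1]
    exact sup_le (inf_le_left.trans le_sup_left) (h.TD.trans le_sup_right)
  · exfalso
    apply hm
    have h2 : o2 (P j) ≤ T := o2_le_of_sylow h.two hsP
    have h3 : (T ⊓ K : Subgroup G) = o2 (P j) ⊓ K := by
      apply le_antisymm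
      · refine le_inf (le_trans ?_ h1) inf_le_right
        exact le_inf inf_le_left (le_inf inf_le_right (inf_le_left.trans (h.par j).le))
      · exact inf_le_inf_right _ h2
    rw [h3]
    intro g hg
    rw [mem_normalizer_iff_cj, cj_inf, cj_eq_of_mem_normalizer (le_normalizer_o2 _ hg),
      cj_eq_of_mem_normalizer (hPK hg)]

/-- **(B3)** -/
theorem gen (j : ι) (K : Subgroup G) (hK : K ≤ YT T P j) (hn : YT T P j ≤ normalizer (K : Set G))
    (hc : ¬ K ⊓ o2 (DT T) ≤ centralizer (NT T F P j : Set G)) : YT T P j ≤ K ⊔ DT T := by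
  have hE := h.eab (h.ne_univ j)
  set W : Subgroup G := EI (zc T) (YT T P) {j} with hW
  have hWT : W ≤ T := (h.E_le_o2X (h.ne_univ j)).trans (h.o2X _ (h.ne_univ j))
  have hWn : YT T P j ≤ normalizer (W : Set G) := EI_norm (ZJ := zc T) (Y := YT T P) (Set.mem_singleton j)
  have hZW : zc T ≤ W := by
    have h1 := le_iSup (fun y : (⨆ i : ({j} : Set ι), YT T P i : Subgroup G) => cj (y : G) (zc T)) 1
    simp only [OneMemClass.coe_one, cj_one] at h1
    exact h1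
  obtain ⟨y, hy, hyc⟩ : ∃ y ∈ YT T P j, ¬ K ⊓ o2 (DT T) ≤ centralizer (cj y (zc T) : Set G) := by
    by_contra hcon
    push Not at hcon
    apply hc
    refine comm_symm (KL.FlagNO.V_le_elem fun g hg z hz => ?_)
    exact comm_symm (hcon g hg) ⟨z, h.F_le j hz, rfl⟩
  have hWc : ∀ x ∈ W, ∀ y ∈ W, x * y = y * x := fun x hx y hy =>
    mem_centralizer_iff.1 ((eab_iff.1 hE.1).1 hy) x hx
  have hW2 : ∀ x ∈ W, x * x = 1 := fun x hx => by rw [← pow_two]; exact (eab_iff.1 hE.1).2 x hx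
  have hCW : W ⊓ centralizer (T : Set G) ≤ zc T := fun x hx =>
    mem_zc.2 ⟨hWT hx.1, (eab_iff.1 hE.1).2 x hx.1, fun y hy => mem_centralizer_iff.1 hx.2 y hy⟩
  have hm := QP.moves_of (B := T) (D := DT T) (L := P j) (W := W) (K := K) (Z := zc T)
    (h.Syl_D j) le_rfl hWT hWc hW2 hWn hZW hCW hK hn inf_le_right (F := K ⊓ o2 (DT T))
    (inf_le_inf_left _ (o2_le _)) hy hyc
  exact sup_le le_sup_right (h.P_le j ((le_sup_right : P j ≤ YT T P j).trans hn) hm)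

/-- `Z^y ≤ N_i Z` for `y ∈ Y_i` -/
theorem ZN (i : ι) (y : G) (hy : y ∈ YT T P i) : cj y (zc T) ≤ NT T F P i ⊔ zc T := by
  have e : cj y (zc T) = ⨆ l, cj y (F l) := by
    conv_lhs => rw [h.zcT]
    rw [cj, Subgroup.map_iSup]
  rw [e]
  refine iSup_le fun l => ?_
  by_cases hl : l = i
  · subst hl
    have h1 := cj_mono y (F_le_N (T := T) (F := F) (P := P) l)
    rw [cj_eq_of_mem_normalizer (Y_norm_N l hy)] at h1
    exact h1.trans le_sup_left
  · rw [cj_eq_of_mem_normalizer (centralizer_le_normalizer _ (h.Y_cent hl hy))]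
    exact (h.F_le l).trans le_sup_right

/-- **The frame of THEOREM U.** -/
theorem toFr (ml : ML.Final.MLK.{u, u}) (kg : ∀ i, IsKGroup (YT T P i)) :
    Fr (o2 (DT T)) (DT T) (zc T) (YT T P) (NT T F P) where
  two := o2_isPGroup _
  OY := h.O_le_Y
  OZ := o2_le _
  DY := fun _ => le_sup_left
  three := h.three
  eab := fun K hK => h.eab hK
  NE := fun _ => h.N_le_E rfl
  YN := fun i => Y_norm_N i
  YQ := fun i => by
    rw [← h.Q_eq i]
    exact le_normalizer_o2 _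
  no := fun i => h.no ml i (kg i)
  gen := h.gen
  ZN := h.ZN

/-! ### `N_G(T)` -/

/-- `N_G(T)` acts on `(F i)`, `(Y i)`, `(N i)` and normalises `O` -/
theorem symm {g : G} (hg : g ∈ normalizer (T : Set G)) :
    ∃ σ : Equiv.Perm ι, Sy (o2 (DT T)) (YT T P) (NT T F P) g σ ∧ ∀ i, cj g (F i) = F (σ i) := by
  obtain ⟨σ, hσ⟩ := h.perm g hg
  have hz : cj g (zc T) = zc T := cj_eq_of_mem_normalizer (normalizer_le_normalizer_zc T hg)
  have hD : cj g (DT T) = DT T := by rw [cj_centralizer, hz]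
  refine ⟨σ, ⟨?_, fun l => (hσ l).2, fun l => ?_⟩, fun i => (hσ i).1⟩
  · exact cj_eq_of_mem_normalizer
      (Cfsg.Agent.Omega.normalizer_le_normalizer_o2' _ (mem_normalizer_iff_cj.2 hD))
  · -- `N`
    have key : ∀ {g : G} {i j : ι}, cj g (F i) = F j → cj g (YT T P i) = YT T P j →
        NT T F P j ≤ cj g (NT T F P i) := by
      intro g i j h1 h2
      refine KL.FlagNO.V_le_of_norm (by rw [← h1]; exact cj_mono g (F_le_N i)) fun y hy => ?_
      rw [← h2, mem_cj] at hy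
      have h3 := mem_normalizer_iff_cj.1 (Y_norm_N (T := T) (F := F) (P := P) i hy)
      rw [mem_normalizer_iff_cj]
      have h4 : cj y (cj g (NT T F P i)) = cj g (cj (g⁻¹ * y * g) (NT T F P i)) := by
        rw [cj_cj, cj_cj]
        congr 1
        group
      rw [h4, h3]
    apply le_antisymm
    · have h1 : cj g⁻¹ (F (σ l)) = F l := by rw [← (hσ l).1, cj_inv_cj]
      have h2 : cj g⁻¹ (YT T P (σ l)) = YT T P l := by rw [← (hσ l).2, cj_inv_cj]
      have h3 := cj_mono g (key h1 h2)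
      rwa [cj_cj, mul_inv_cancel, cj_one] at h3
    · exact key (hσ l).1 (hσ l).2

theorem O_ne (i : ι) : o2 (DT T) ≠ ⊥ := by
  intro e
  apply h.ne i
  rw [eq_bot_iff, ← e]
  exact ((F_le_N i).trans (h.N_le_E (K := {i}) rfl)).trans (h.eab (h.ne_univ i)).2

/-- **THEOREM U(q), (1) and (2)** over the `T`-frame. -/
theorem main [Finite ι] [Nonempty ι] (ml : ML.Final.MLK.{u, u}) (kg : ∀ i, IsKGroup (YT T P i))
    (nl : ∀ R : Subgroup G, R ≠ ⊥ → IsPGroup 2 R → ¬ ∀ j, YT T P j ≤ normalizer (R : Set G)) :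
    ∃ A ∈ AA (o2 (DT T)), (∀ i, A ≤ o2 (YT T P i)) ∧ ∃ l m, l ≠ m ∧
      ¬ A ≤ centralizer (EI (zc T) (YT T P) {l, m} : Set G) ∧ ¬ 2 ∣ T.relIndex (XK F {l, m}) ∧
      ∀ g ∈ XK F {l, m} ⊓ normalizer (T : Set G), ∀ i, cj g (F i) = F i := by
  obtain ⟨i⟩ := ‹Nonempty ι›
  obtain ⟨A, hA, hc, l, m, hlm, hm, hs, hf⟩ := (h.toFr ml kg).mainT (h.O_ne i) nl h.two h.inj h.TF'
    (fun g hg => h.symm hg) h.ker
  rw [XF_eq] at hs hf
  refine ⟨A, hA, fun j => ?_, l, m, hlm, hm, hs, hf⟩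
  rw [h.Q_eq j]
  exact le_inf hA.2.1 (hc j)

end TF

end Cfsg.Agent.Omega.EDel.UQ

end

section


/-!
# The hypotheses `oT`, `VX`, `cV`, `dis` of `TypT.of` (helper848 #25339) from the block data

`T` a 2-group, `F i ≤ V i`, `E i` normalises `V i` and centralises the `V c`, `c ≠ i`.

* `oT_of` : `O₂(C_G(F_l : l ≠ i, j)) ≤ T`;
* `cV_of`, `dis_of` : from the independence of the `V i`;
* `V_le_XS` (`VX`), `exists_ord` : `E` induces a group containing `SL₂(F)` on `V`.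
-/

set_option autoImplicit false
set_option linter.unusedSectionVars false

namespace Cfsg.Agent.Omega.NOThreeL.RWide.TBits

open Subgroup Cfsg
open Cfsg.Agent.ZN (zc o2)
open Cfsg.Agent.ZN.ChoiceBase (cj cj_mono cj_inf cj_centralizer cj_eq_of_mem_normalizer mem_cj mem_normalizer_iff_cj
  cj_cj_inv cj_inv_cj cj_cj cj_one)
open Cfsg.Agent.Omega.EDel.UQ (XK XK_cent le_XK XK_mono XF_eq o2X_of_mv)
open Cfsg.Agent.Omega.EDel.ThmU (XF)
open Cfsg.Agent.Omega.NoFF.Basic (comm_symm)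
open Cfsg.Agent.Omega.NOThreeL.RWide (XS YY conj_mem_XS XS_mono le_YY)

universe u

variable {G : Type u} [Group G] {ι : Type*}

/-! ### `oT` -/

/-- powers of `a ρ⁻¹` act on `V` as those of `ρ⁻¹`, if `a` centralises `V` and `ρ` normalises `V` -/
theorem conj_pow {V : Subgroup G} {a ρ : G} (ha : a ∈ centralizer (V : Set G)) (hρ : ρ ∈ normalizer (V : Set G))
    (n : ℕ) : ∀ v ∈ V, (a * ρ⁻¹) ^ n * v * ((a * ρ⁻¹) ^ n)⁻¹ = (ρ ^ n)⁻¹ * v * ρ ^ n := by
  induction n with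
  | zero => intro v _; simp
  | succ n ih =>
    intro v hv
    have h1 : ρ⁻¹ * v * ρ ∈ V := by
      have := (mem_normalizer_iff.1 (inv_mem hρ) v).1 hv
      rwa [inv_inv] at this
    have h2 : (ρ⁻¹ * v * ρ) * a = a * (ρ⁻¹ * v * ρ) := mem_centralizer_iff.1 ha _ h1
    calc (a * ρ⁻¹) ^ (n + 1) * v * ((a * ρ⁻¹) ^ (n + 1))⁻¹
        = (a * ρ⁻¹) ^ n * (a * (ρ⁻¹ * v * ρ) * a⁻¹) * ((a * ρ⁻¹) ^ n)⁻¹ := by rw [pow_succ]; group
      _ = (a * ρ⁻¹) ^ n * (ρ⁻¹ * v * ρ) * ((a * ρ⁻¹) ^ n)⁻¹ := by rw [← h2, mul_inv_cancel_right]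
      _ = (ρ ^ n)⁻¹ * (ρ⁻¹ * v * ρ) * ρ ^ n := ih _ h1
      _ = (ρ ^ (n + 1))⁻¹ * v * ρ ^ (n + 1) := by
        rw [pow_succ' ρ n]
        group

/-- **`oT`** : `O₂(C_G(F_l : l ≠ i, j)) ≤ T` -/
theorem oT_of [Finite G] {T : Subgroup G} {F V E : ι → Subgroup G} (two : IsPGroup 2 T)
    (hT : ∀ i, T ≤ centralizer (F i : Set G)) (FV : ∀ i, F i ≤ V i)
    (EN : ∀ i, E i ≤ normalizer (V i : Set G)) (EC : ∀ b c, b ≠ c → E b ≤ centralizer (V c : Set G))
    (ord : ∀ i, ∃ ρ ∈ E i, ∀ k : ℕ, ∃ v ∈ V i, ρ ^ 2 ^ k * v ≠ v * ρ ^ 2 ^ k)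
    (NT : ∀ n ∈ normalizer (T : Set G), ∃ σ : Equiv.Perm ι, ∀ i, cj n (F i) = F (σ i) ∧ cj n (V i) = V (σ i))
    (ker : ∀ n ∈ normalizer (T : Set G), (∃ k : ℕ, n ^ 2 ^ k = 1) → (∀ i, cj n (F i) = F i) → n ∈ T)
    (i j : ι) : o2 (XF F i j) ≤ T := by
  rw [XF_eq]
  refine o2X_of_mv two (le_XK fun n _ => hT n) ker fun g hg _ i hne => ?_
  obtain ⟨σ, hσ⟩ := NT g hg
  obtain ⟨ρ, hρ, hord⟩ := ord i
  refine ⟨ρ, le_XK (H := E i) (fun n hn => (EC i n fun e => hn e.symm).trans (centralizer_le (FV n))) hρ, ?_⟩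
  rintro ⟨k, hk⟩
  obtain ⟨v, hv, hne'⟩ := hord k
  apply hne'
  -- `g ρ g⁻¹` centralises `V i`
  have ha : g * ρ * g⁻¹ ∈ centralizer (V i : Set G) := by
    rw [mem_centralizer_iff]
    intro w hw
    have hc : σ.symm i ≠ i := by
      intro e
      apply hne
      have e' : σ i = i := by
        conv_lhs => rw [← e]
        rw [Equiv.apply_symm_apply]
      rw [(hσ i).1, e']
    have h1 : g⁻¹ * w * g ∈ V (σ.symm i) := by
      rw [← mem_cj, (hσ _).2, Equiv.apply_symm_apply]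
      exact hw
    have h2 := mem_centralizer_iff.1 (EC i _ (Ne.symm hc) hρ) _ h1
    calc w * (g * ρ * g⁻¹) = g * (g⁻¹ * w * g * ρ) * g⁻¹ := by group
      _ = g * (ρ * (g⁻¹ * w * g)) * g⁻¹ := by rw [h2]
      _ = g * ρ * g⁻¹ * w := by group
  have e : g * (ρ * g⁻¹ * ρ⁻¹) = (g * ρ * g⁻¹) * ρ⁻¹ := by group
  have h3 := conj_pow ha (EN i hρ) (2 ^ k) v hv
  rw [← e, hk, one_mul, inv_one, mul_one] at h3
  calc ρ ^ 2 ^ k * v = ρ ^ 2 ^ k * ((ρ ^ 2 ^ k)⁻¹ * v * ρ ^ 2 ^ k) := by rw [← h3]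
    _ = v * ρ ^ 2 ^ k := by group

/-! ### `cV`, `dis` -/

/-- **`dis`** -/
theorem dis_of {V : ι → Subgroup G} (ind : ∀ b, V b ⊓ (⨆ c : {c // c ≠ b}, V c) = ⊥) (i j : ι) (hij : i ≠ j) :
    V i ⊓ V j = ⊥ := by
  rw [eq_bot_iff, ← ind i]
  exact inf_le_inf_left _ (le_iSup (fun c : {c // c ≠ i} => V c) ⟨j, Ne.symm hij⟩)

/-- **`cV`** -/
theorem cV_of {Z : Subgroup G} {F V : ι → Subgroup G} (sup : Z ≤ ⨆ i, F i) (FV : ∀ i, F i ≤ V i)
    (com : ∀ i j, V i ≤ centralizer (V j : Set G)) (ind : ∀ b, V b ⊓ (⨆ c : {c // c ≠ b}, V c) = ⊥) (i : ι) :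
    V i ⊓ Z ≤ F i := by
  rintro x ⟨hx, hxZ⟩
  have h1 : (⨆ j, F j) ≤ F i ⊔ (⨆ c : {c // c ≠ i}, F c) := by
    refine iSup_le fun j => ?_
    by_cases hj : j = i
    · rw [hj]; exact le_sup_left
    · exact (le_iSup (fun c : {c // c ≠ i} => F c) ⟨j, hj⟩).trans le_sup_right
  have h2 : x ∈ F i ⊔ (⨆ c : {c // c ≠ i}, F c) := h1 (sup hxZ)
  have hn : F i ≤ normalizer ((⨆ c : {c // c ≠ i}, F c : Subgroup G) : Set G) := by
    refine le_trans ?_ (centralizer_le_normalizer _)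
    refine comm_symm (iSup_le fun c => ?_)
    exact (FV c).trans ((com c i).trans (centralizer_le (FV i)))
  have h2' : x ∈ ((F i ⊔ (⨆ c : {c // c ≠ i}, F c) : Subgroup G) : Set G) := h2
  rw [coe_mul_of_left_le_normalizer_right _ _ hn] at h2'
  obtain ⟨f, hf, w, hw, rfl⟩ := Set.mem_mul.1 h2'
  have h3 : w ∈ V i := by
    have h4 := mul_mem (inv_mem (FV i hf)) hx
    rwa [inv_mul_cancel_left] at h4
  have h5 : w ∈ V i ⊓ (⨆ c : {c // c ≠ i}, V c) :=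
    ⟨h3, (iSup_mono fun c : {c // c ≠ i} => FV c) hw⟩
  rw [ind i, mem_bot] at h5
  rw [h5, mul_one]
  exact hf

/-! ### Natural `SL₂(F)`-modules -/

section nat

variable {F : Type} [Field F] {e : G → Fin 2 → F} {E N : Subgroup G}

/-- a matrix of determinant 1 with given first column -/
theorem exists_col (x : Fin 2 → F) (hx : x ≠ 0) :
    ∃ M : Matrix.SpecialLinearGroup (Fin 2) F, M.1.mulVec ![1, 0] = x := by
  by_cases h0 : x 0 = 0
  · have h1 : x 1 ≠ 0 := by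
      intro h1
      apply hx
      funext i
      fin_cases i
      · exact h0
      · exact h1
    refine ⟨⟨!![0, -(x 1)⁻¹; x 1, 0], by rw [Matrix.det_fin_two_of]; field_simp; ring⟩, ?_⟩
    funext i
    fin_cases i
    · simp [Matrix.mulVec, dotProduct, Fin.sum_univ_two, h0]
    · simp [Matrix.mulVec, dotProduct, Fin.sum_univ_two]
  · refine ⟨⟨!![x 0, 0; x 1, (x 0)⁻¹], by rw [Matrix.det_fin_two_of]; field_simp; ring⟩, ?_⟩
    funext i
    fin_cases i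
    · simp [Matrix.mulVec, dotProduct, Fin.sum_univ_two]
    · simp [Matrix.mulVec, dotProduct, Fin.sum_univ_two]

/-- `SL₂(F)` is transitive on the nonzero vectors -/
theorem exists_mulVec {x y : Fin 2 → F} (hx : x ≠ 0) (hy : y ≠ 0) :
    ∃ M : Matrix.SpecialLinearGroup (Fin 2) F, M.1.mulVec x = y := by
  obtain ⟨A, hA⟩ := exists_col x hx
  obtain ⟨B, hB⟩ := exists_col y hy
  refine ⟨B * A⁻¹, ?_⟩
  have h1 : (A⁻¹).1.mulVec x = ![1, 0] := by
    rw [← hA, Matrix.mulVec_mulVec, ← Matrix.SpecialLinearGroup.coe_mul, inv_mul_cancel,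
      Matrix.SpecialLinearGroup.coe_one, Matrix.one_mulVec]
  rw [Matrix.SpecialLinearGroup.coe_mul, ← Matrix.mulVec_mulVec, h1, hB]

variable (mul : ∀ v ∈ N, ∀ w ∈ N, e (v * w) = e v + e w) (inj : ∀ v ∈ N, e v = 0 → v = 1)
  (full : ∀ M : Matrix.SpecialLinearGroup (Fin 2) F, ∃ g ∈ E, ∀ v ∈ N, e (g * v * g⁻¹) = M.1.mulVec (e v))
  (EN : E ≤ normalizer (N : Set G))

include mul in
theorem e_one : e 1 = 0 := by
  have h := mul 1 (one_mem _) 1 (one_mem _)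
  rw [mul_one] at h
  simpa using h

include mul in
theorem e_inv {v : G} (hv : v ∈ N) : e v⁻¹ = -e v := by
  have h := mul v hv v⁻¹ (inv_mem hv)
  rw [mul_inv_cancel, e_one mul] at h
  exact (neg_eq_of_add_eq_zero_right h.symm).symm

include mul inj in
theorem e_inj {v w : G} (hv : v ∈ N) (hw : w ∈ N) (h : e v = e w) : v = w := by
  have h1 := inj (v * w⁻¹) (mul_mem hv (inv_mem hw)) (by
    rw [mul v hv _ (inv_mem hw), e_inv mul hw, h, add_neg_cancel])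
  exact mul_inv_eq_one.1 h1

include mul inj full EN in
/-- **irreducibility** : `N ≤ ⟨A^E⟩` for `1 ≠ A ≤ N` -/
theorem N_le_XS {A : Subgroup G} (hA : A ≤ N) (hA1 : A ≠ ⊥) : N ≤ XS A E := by
  obtain ⟨a, ha, ha1⟩ : ∃ a ∈ A, a ≠ 1 := by
    by_contra hcon
    push Not at hcon
    exact hA1 ((eq_bot_iff_forall _).2 hcon)
  have hea : e a ≠ 0 := fun h => ha1 (inj a (hA ha) h)
  intro v hv
  by_cases hv1 : v = 1
  · rw [hv1]; exact one_mem _
  have hev : e v ≠ 0 := fun h => hv1 (inj v hv h)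
  obtain ⟨M, hM⟩ := exists_mulVec hea hev
  obtain ⟨g, hg, hgM⟩ := full M
  have h1 : g * a * g⁻¹ ∈ N := (mem_normalizer_iff.1 (EN hg) a).1 (hA ha)
  have h2 : g * a * g⁻¹ = v := e_inj mul inj h1 hv (by rw [hgM a (hA ha), hM])
  rw [← h2]
  exact conj_mem_XS hg ha

/-- an element of order 3 of `SL₂(F)` -/
theorem exists_three : ∃ M : Matrix.SpecialLinearGroup (Fin 2) F, M ^ 3 = 1 ∧ M ≠ 1 := by
  let M : Matrix.SpecialLinearGroup (Fin 2) F := ⟨!![0, -1; 1, -1], by rw [Matrix.det_fin_two_of]; ring⟩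
  have hM : (M : Matrix (Fin 2) (Fin 2) F) = !![0, -1; 1, -1] := rfl
  refine ⟨M, ?_, ?_⟩
  · apply Matrix.SpecialLinearGroup.ext
    intro i j
    rw [Matrix.SpecialLinearGroup.coe_pow, Matrix.SpecialLinearGroup.coe_one, pow_succ, pow_two, hM]
    fin_cases i <;> fin_cases j <;> simp [Matrix.mul_apply, Fin.sum_univ_two]
  · intro h
    have h1 := congrArg (fun M : Matrix.SpecialLinearGroup (Fin 2) F => M.1 0 0) h
    simp [hM] at h1

include full EN in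
/-- some `ρ ∈ E` has no 2-power centralising `N` -/
theorem exists_ord (sur : ∀ x : Fin 2 → F, ∃ v ∈ N, e v = x) :
    ∃ ρ ∈ E, ∀ k : ℕ, ∃ v ∈ N, ρ ^ 2 ^ k * v ≠ v * ρ ^ 2 ^ k := by
  obtain ⟨M, hM3, hM1⟩ := exists_three (F := F)
  obtain ⟨ρ, hρ, hact⟩ := full M
  refine ⟨ρ, hρ, fun k => ?_⟩
  by_contra hcon
  push Not at hcon
  have hpow : ∀ n : ℕ, ∀ v ∈ N, e (ρ ^ n * v * (ρ ^ n)⁻¹) = (M ^ n).1.mulVec (e v) := by
    intro n
    induction n with
    | zero => intro v _; simp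
    | succ n ih =>
      intro v hv
      have h1 : ρ * v * ρ⁻¹ ∈ N := (mem_normalizer_iff.1 (EN hρ) v).1 hv
      have e1 : ρ ^ (n + 1) * v * (ρ ^ (n + 1))⁻¹ = ρ ^ n * (ρ * v * ρ⁻¹) * (ρ ^ n)⁻¹ := by
        rw [pow_succ]; group
      rw [e1, ih _ h1, hact v hv, Matrix.mulVec_mulVec, ← Matrix.SpecialLinearGroup.coe_mul, ← pow_succ]
  have h1 : M ^ 2 ^ k = 1 := by
    apply Subtype.ext
    apply Matrix.ext_of_mulVec_single
    intro i
    obtain ⟨v, hv, hve⟩ := sur (Pi.single i 1)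
    have h2 := hpow (2 ^ k) v hv
    rw [hcon v hv, mul_inv_cancel_right, hve] at h2
    rw [← h2, Matrix.SpecialLinearGroup.coe_one, Matrix.one_mulVec]
  apply hM1
  have h3 : orderOf M ∣ 3 := orderOf_dvd_of_pow_eq_one hM3
  have h4 : orderOf M ∣ 2 ^ k := orderOf_dvd_of_pow_eq_one h1
  have h5 : orderOf M ∣ 1 := by
    have hc : Nat.Coprime 3 (2 ^ k) := Nat.Coprime.pow_right k (by norm_num)
    rw [← hc]
    exact Nat.dvd_gcd h3 h4
  exact orderOf_eq_one_iff.1 (Nat.dvd_one.1 h5)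

end nat

/-- **`VX`** -/
theorem VX_of {F V E : ι → Subgroup G} (FV : ∀ i, F i ≤ V i)
    (EC : ∀ b c, b ≠ c → E b ≤ centralizer (V c : Set G)) (i : ι) (h : V i ≤ XS (F i) (E i)) :
    V i ≤ XS (F i) (YY F i) :=
  h.trans (XS_mono (le_YY fun l hl => (EC i l (Ne.symm hl)).trans (centralizer_le (FV l))))

end Cfsg.Agent.Omega.NOThreeL.RWide.TBits

end
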